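import Groth.Agent.L14.DeRham.Lie
import Mathlib.LinearAlgebra.Basis.Basic
import Mathlib.LinearAlgebra.ExteriorPower.Basis

/-!
The Lie derivative along a coordinate field of a frame of closed one-forms.
-/

set_option autoImplicit false
set_option linter.style.haveILetI false

noncomputable section

universe v u

open exteriorPower Module Groth.L14.DeRham

namespace Groth.L06.LogCartier

variable {R : Type v} {A M : Type u} [CommRing R] [CommRing A] [Algebra R A]
  [AddCommGroup M] [Module A M]

theorem wedgeCons_add (p : ℕ) (m m' : M) (x : ↥(⋀[A]^p M)) :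
    wedgeCons (A := A) p (m + m') x = wedgeCons p m x + wedgeCons p m' x :=
  Subtype.ext (by simp only [coe_wedgeCons, Submodule.coe_add, map_add, add_mul])

theorem wedgeCons_smul (p : ℕ) (c : A) (m : M) (x : ↥(⋀[A]^p M)) :
    wedgeCons (A := A) p (c • m) x = c • wedgeCons p m x :=
  Subtype.ext (by simp only [coe_wedgeCons, Submodule.coe_smul, map_smul, smul_mul_assoc])

theorem contr_smul (θ : A) (φ : M →ₗ[A] A) (p : ℕ) (x : ↥(⋀[A]^(p + 1) M)) :
    contr (θ • φ) p x = θ • contr φ p x :=
  Subtype.ext (by simp only [coe_contr, Submodule.coe_smul, ctr, map_smul, LinearMap.smul_apply])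

variable [Module R M] [IsScalarTower R A M] {n : ℕ} (bL : Basis (Fin n) A M)

/-- The wedge of a tuple of frame vectors. -/
def W {p : ℕ} (v : Fin p → Fin n) : ↥(⋀[A]^p M) := ιMulti A p fun i => bL (v i)

omit [Module R M] [IsScalarTower R A M] in
theorem wedgeCons_W {p : ℕ} (j : Fin n) (v : Fin p → Fin n) :
    wedgeCons (A := A) p (bL j) (W bL v) = W bL (Fin.cons j v) := by
  rw [W, W, wedgeCons_ιMulti]
  congr 1
  funext i
  refine Fin.cases ?_ (fun j => ?_) i <;> simp

omit [Module R M] [IsScalarTower R A M] in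
theorem wedgeCons_W_eq_zero {p : ℕ} {j : Fin n} {v : Fin p → Fin n} (h : j ∈ Set.range v) :
    wedgeCons (A := A) p (bL j) (W bL v) = 0 := by
  obtain ⟨i, rfl⟩ := h
  rw [wedgeCons_W, W]
  exact (ιMulti A (p + 1)).map_eq_zero_of_eq _ (i := 0) (j := i.succ) (by simp) (Fin.succ_ne_zero i).symm

omit [Module R M] [IsScalarTower R A M] in
theorem W_cons {p : ℕ} (v : Fin (p + 1) → Fin n) :
    W bL v = wedgeCons (A := A) p (bL (v 0)) (W bL (Fin.tail v)) := by
  rw [wedgeCons_W, Fin.cons_self_tail]

omit [Module R M] [IsScalarTower R A M] in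
theorem contr_coord_mem (ν : Fin n) : ∀ (p : ℕ) (v : Fin (p + 1) → Fin n),
    contr (bL.coord ν) p (W bL v) ∈ AddSubgroup.closure (Set.range (W bL (p := p))) ∧
      (ν ∉ Set.range v → contr (bL.coord ν) p (W bL v) = 0) := by
  classical
  have hc : ∀ j, bL.coord ν (bL j) = if j = ν then 1 else 0 := fun j => by
    rw [Basis.coord_apply, Basis.repr_self, Finsupp.single_apply]
  intro p
  induction p with
  | zero =>
    intro v
    rw [W_cons, contr_wedgeCons_zero, hc]
    refine ⟨?_, fun h => by rw [if_neg fun e => h ⟨0, e⟩, zero_smul]⟩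
    split_ifs
    · rw [one_smul]; exact AddSubgroup.subset_closure ⟨_, rfl⟩
    · rw [zero_smul]; exact zero_mem _
  | succ p ih =>
    intro v
    rw [W_cons, contr_wedgeCons, hc]
    constructor
    · refine sub_mem ?_ ?_
      · split_ifs
        · rw [one_smul]; exact AddSubgroup.subset_closure ⟨_, rfl⟩
        · rw [zero_smul]; exact zero_mem _
      · obtain ⟨h, -⟩ := ih (Fin.tail v)
        revert h
        generalize contr (bL.coord ν) p (W bL (Fin.tail v)) = z
        intro h
        induction h using AddSubgroup.closure_induction with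
        | mem y hy => obtain ⟨w, rfl⟩ := hy; exact AddSubgroup.subset_closure ⟨_, (wedgeCons_W bL _ w).symm⟩
        | zero => rw [map_zero]; exact zero_mem _
        | add a b _ _ ha hb => rw [map_add]; exact add_mem ha hb
        | neg a _ ha => rw [map_neg]; exact neg_mem ha
    · intro h
      rw [if_neg fun e => h ⟨0, e⟩, zero_smul, (ih (Fin.tail v)).2 fun ⟨i, hi⟩ => h ⟨i.succ, hi⟩, map_zero,
        sub_zero]

omit [Module R M] [IsScalarTower R A M] in
/-- Wedging back the contracted frame vector. -/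
theorem wedgeCons_contr_coord (ν : Fin n) (p : ℕ) (v : Fin (p + 1) → Fin n) [Decidable (ν ∈ Set.range v)] :
    wedgeCons (A := A) p (bL ν) (contr (bL.coord ν) p (W bL v)) = if ν ∈ Set.range v then W bL v else 0 := by
  split_ifs with h
  · have h1 := contr_wedgeCons (bL.coord ν) p (bL ν) (W bL v)
    rw [wedgeCons_W_eq_zero bL h, map_zero, Basis.coord_apply, Basis.repr_self, Finsupp.single_eq_same,
      one_smul] at h1
    exact (sub_eq_zero.1 h1.symm).symm
  · rw [(contr_coord_mem bL ν p v).2 h, map_zero]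

variable (δ : Derivation R A M) {d : ∀ p : ℕ, ↥(⋀[A]^p M) →ₗ[R] ↥(⋀[A]^(p + 1) M)}

/-- The differential in a frame of closed forms. -/
def IsFrameRule (d : ∀ p : ℕ, ↥(⋀[A]^p M) →ₗ[R] ↥(⋀[A]^(p + 1) M)) : Prop :=
  ∀ (p : ℕ) (f : A) (v : Fin p → Fin n), d p (f • W bL v) = wedgeCons (A := A) p (δ f) (W bL v)

variable {δ}

theorem d_smul_closure (hd : IsFrameRule bL δ d) (p : ℕ) (f : A) (y : ↥(⋀[A]^p M))
    (hy : y ∈ AddSubgroup.closure (Set.range (W bL (p := p)))) :
    d p (f • y) = wedgeCons (A := A) p (δ f) y := by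
  induction hy using AddSubgroup.closure_induction with
  | mem y hy => obtain ⟨v, rfl⟩ := hy; exact hd p f v
  | zero => rw [smul_zero, map_zero, map_zero]
  | add a b _ _ ha hb => rw [smul_add, map_add, map_add, ha, hb]
  | neg a _ ha => rw [smul_neg, map_neg, map_neg, ha]

/-- The Lie derivative along `θ` times a coordinate field is diagonal in the frame. -/
theorem lie_smul_W (hd : IsFrameRule bL δ d) (ν : Fin n) (θ χ : A) (hθ : δ θ = χ • bL ν) (p : ℕ) (f : A)
    (v : Fin p → Fin n) [Decidable (ν ∈ Set.range v)] :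
    lie d (θ • bL.coord ν) p (f • W bL v) =
      (θ * bL.repr (δ f) ν + if ν ∈ Set.range v then f * χ else 0) • W bL v := by
  cases p with
  | zero =>
    have hv : ν ∉ Set.range v := fun ⟨i, _⟩ => i.elim0
    rw [lie_zero_apply, hd, contr_wedgeCons_zero, if_neg hv, add_zero]
    rfl
  | succ q =>
    obtain ⟨hmem, -⟩ := contr_coord_mem bL ν q v
    have hwc := wedgeCons_contr_coord bL ν q v
    set y := contr (bL.coord ν) q (W bL v) with hy
    rw [lie_succ_apply, map_smul (contr (θ • bL.coord ν) q), contr_smul, smul_smul, ← hy,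
      d_smul_closure bL hd q (f * θ) y hmem, hd, contr_wedgeCons, contr_smul, ← hy, Derivation.leibniz,
      wedgeCons_add, wedgeCons_smul, wedgeCons_smul, hθ, wedgeCons_smul, hwc, map_smul, LinearMap.smul_apply,
      Basis.coord_apply, smul_eq_mul]
    split_ifs <;> module

end Groth.L06.LogCartier
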