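import Groth.Agent.L06.LogCartier.Frame
import Groth.Prelude.Def_LogDiff
import Mathlib.RingTheory.Kaehler.Polynomial
import Mathlib.Algebra.MvPolynomial.Expand
import Mathlib.Algebra.MvPolynomial.PDeriv
import Mathlib.Algebra.CharP.Basic
import Mathlib.FieldTheory.Finite.Basic

/-!
The Cartier isomorphism for logarithmic forms on affine space with a monomial divisor.
-/

set_option autoImplicit false
set_option linter.style.haveILetI false

noncomputable section

universe u

open exteriorPower Module MvPolynomial Groth.L14.DeRham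

namespace Groth.L06.LogCartier

section Weights

variable {σ : Type*} {R : Type u} [CommRing R]

/-- The Euler operator on a monomial. -/
theorem X_mul_pderiv_monomial' (i : σ) (k : σ →₀ ℕ) (c : R) :
    X i * pderiv i (monomial k c) = (k i : R) • monomial k c := by
  classical
  rw [pderiv_monomial, smul_monomial, smul_eq_mul]
  rcases Nat.eq_zero_or_pos (k i) with h | h
  · rw [h, Nat.cast_zero, mul_zero, monomial_zero, mul_zero, zero_mul, monomial_zero]
  · rw [show (X i : MvPolynomial σ R) = monomial (Finsupp.single i 1) 1 from rfl, monomial_mul, one_mul,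
      mul_comm c]
    congr 2
    ext j
    rcases eq_or_ne i j with rfl | hij
    · simp only [Finsupp.add_apply, Finsupp.tsub_apply, Finsupp.single_eq_same]; omega
    · simp only [Finsupp.add_apply, Finsupp.tsub_apply, Finsupp.single_eq_of_ne' hij]; omega

theorem pow_sub_one_cast (p : ℕ) [Fact p.Prime] [CharP R p] (m : ℕ) :
    (m : R) ^ (p - 1) = if p ∣ m then 0 else 1 := by
  have hp : p.Prime := Fact.out
  split_ifs with h
  · rw [(CharP.cast_eq_zero_iff R p m).2 h, zero_pow]
    have := hp.two_le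
    omega
  · have h0 : (m : ZMod p) ≠ 0 := fun e => h ((ZMod.natCast_eq_zero_iff m p).1 e)
    have h1 := congrArg (ZMod.castHom (dvd_refl p) R) (ZMod.pow_card_sub_one_eq_one h0)
    rwa [map_pow, map_natCast, map_one] at h1

end Weights

variable {p : ℕ} [Fact p.Prime] {R : Type u} [CommRing R] {n r : ℕ} (hr : r ≤ n)

variable {L : Type u} [AddCommGroup L] [Module (MvPolynomial (Fin n) R) L]
  (ι : (Ω[MvPolynomial (Fin n) R⁄R]) →ₗ[MvPolynomial (Fin n) R] L) (dl : Fin r → L)

/-- The frame: the log forms, then the differentials of the remaining coordinates. -/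
def frameVec (ν : Fin n) : L :=
  if h : (ν : ℕ) < r then dl ⟨ν, h⟩ else ι (KaehlerDifferential.D R (MvPolynomial (Fin n) R) (X ν))

/-- The functions `c` with `ι dX = c • frame`. -/
def cst (R : Type u) [CommRing R] (r : ℕ) (ν : Fin n) : MvPolynomial (Fin n) R :=
  if (ν : ℕ) < r then X ν else 1

theorem cst_smul_frameVec
    (hL : LogDiff.IsLog (KaehlerDifferential.D R (MvPolynomial (Fin n) R)) (fun i : Fin r => (X (Fin.castLE hr i) : (MvPolynomial (Fin n) R))) ι dl) (ν : Fin n) :
    cst R r ν • frameVec ι dl ν = ι (KaehlerDifferential.D R (MvPolynomial (Fin n) R) (X ν)) := by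
  unfold cst frameVec
  split_ifs with h
  · exact hL.1 ⟨ν, h⟩
  · rw [one_smul]

theorem span_frameVec
    (hL : LogDiff.IsLog (KaehlerDifferential.D R (MvPolynomial (Fin n) R)) (fun i : Fin r => (X (Fin.castLE hr i) : (MvPolynomial (Fin n) R))) ι dl) :
    ⊤ ≤ Submodule.span (MvPolynomial (Fin n) R) (Set.range (frameVec ι dl)) := by
  rw [← hL.2.1, Submodule.span_le, Set.union_subset_iff]
  constructor
  · rintro _ ⟨ω, rfl⟩
    rw [← (KaehlerDifferential.mvPolynomialBasis R (Fin n)).sum_repr ω, map_sum]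
    refine sum_mem fun ν _ => ?_
    rw [map_smul, KaehlerDifferential.mvPolynomialBasis_apply, ← cst_smul_frameVec hr ι dl hL, smul_smul]
    exact Submodule.smul_mem _ _ (Submodule.subset_span ⟨ν, rfl⟩)
  · rintro _ ⟨i, rfl⟩
    refine Submodule.subset_span ⟨Fin.castLE hr i, ?_⟩
    rw [frameVec, dif_pos (by simp)]
    rfl

theorem linearIndependent_frameVec
    (hL : LogDiff.IsLog (KaehlerDifferential.D R (MvPolynomial (Fin n) R)) (fun i : Fin r => (X (Fin.castLE hr i) : (MvPolynomial (Fin n) R))) ι dl) :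
    LinearIndependent (MvPolynomial (Fin n) R) (frameVec ι dl) := by
  classical
  rw [Fintype.linearIndependent_iff]
  intro g hg ν
  let PP : (MvPolynomial (Fin n) R) := ∏ i : Fin r, X (Fin.castLE hr i)
  let P : Fin n → (MvPolynomial (Fin n) R) := fun j =>
    if h : (j : ℕ) < r then ∏ i ∈ Finset.univ.erase (⟨j, h⟩ : Fin r), X (Fin.castLE hr i) else PP
  have hPP : ∀ m : ℕ, IsLeftRegular (PP ^ m) := fun m => by
    refine IsLeftRegular.pow m ?_
    exact (IsRegular.prod fun i _ => isRegular_X).left
  have hPr : ∀ j, IsLeftRegular (P j) := fun j => by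
    simp only [P]
    split_ifs
    · exact (IsRegular.prod fun i _ => isRegular_X).left
    · exact (IsRegular.prod fun i _ => isRegular_X).left
  have hP : ∀ j, P j * cst R r j = PP := fun j => by
    simp only [P, cst]
    by_cases h : (j : ℕ) < r
    · rw [dif_pos h, if_pos h, mul_comm]
      have h1 := Finset.mul_prod_erase Finset.univ (fun i : Fin r => (X (Fin.castLE hr i) : MvPolynomial (Fin n) R))
        (Finset.mem_univ (⟨j, h⟩ : Fin r))
      rw [show Fin.castLE hr ⟨j, h⟩ = j from Fin.ext rfl] at h1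
      exact h1
    · rw [dif_neg h, if_neg h, mul_one]
  let ω : Ω[(MvPolynomial (Fin n) R)⁄R] := ∑ j, (g j * P j) • KaehlerDifferential.D R (MvPolynomial (Fin n) R) (X j)
  have hω : ι ω = 0 := by
    have h2 : ι ω = PP • ∑ j, g j • frameVec ι dl j := by
      simp only [ω, map_sum, Finset.smul_sum]
      refine Finset.sum_congr rfl fun j _ => ?_
      rw [map_smul, ← cst_smul_frameVec hr ι dl hL, smul_smul, mul_assoc, hP, mul_comm, mul_smul]
    rw [h2, hg, smul_zero]
  obtain ⟨N, hN⟩ := (hL.2.2.2 ω).1 hω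
  change PP ^ N • ω = 0 at hN
  have hli := (KaehlerDifferential.mvPolynomialBasis R (Fin n)).linearIndependent
  rw [Fintype.linearIndependent_iff] at hli
  have h := hli (fun j => PP ^ N * (g j * P j)) (by
    simp only [KaehlerDifferential.mvPolynomialBasis_apply, mul_smul, ← Finset.smul_sum]
    simpa only [ω, mul_smul] using hN) ν
  have h1 : g ν * P ν = 0 := hPP N (by simpa using h)
  exact hPr ν (by simpa [mul_comm] using h1)

/-- The frame as a basis. -/
def frame (hL : LogDiff.IsLog (KaehlerDifferential.D R (MvPolynomial (Fin n) R)) (fun i : Fin r => (X (Fin.castLE hr i) : (MvPolynomial (Fin n) R))) ι dl) :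
    Basis (Fin n) (MvPolynomial (Fin n) R) L :=
  Basis.mk (linearIndependent_frameVec hr ι dl hL) (span_frameVec hr ι dl hL)

variable [Module R L] [IsScalarTower R (MvPolynomial (Fin n) R) L]
  {hL : LogDiff.IsLog (KaehlerDifferential.D R (MvPolynomial (Fin n) R)) (fun i : Fin r => (X (Fin.castLE hr i) : (MvPolynomial (Fin n) R))) ι dl}

theorem repr_delta (f : (MvPolynomial (Fin n) R)) (ν : Fin n) :
    (frame hr ι dl hL).repr (ι.compDer (KaehlerDifferential.D R (MvPolynomial (Fin n) R)) f) ν = pderiv ν f * cst R r ν := by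
  classical
  have e : ι.compDer (KaehlerDifferential.D R (MvPolynomial (Fin n) R)) f = ∑ j, (pderiv j f * cst R r j) • frame hr ι dl hL j := by
    show ι (KaehlerDifferential.D R (MvPolynomial (Fin n) R) f) = _
    conv_lhs => rw [← (KaehlerDifferential.mvPolynomialBasis R (Fin n)).sum_repr (KaehlerDifferential.D R (MvPolynomial (Fin n) R) f)]
    rw [map_sum]
    refine Finset.sum_congr rfl fun j _ => ?_
    rw [map_smul, KaehlerDifferential.mvPolynomialBasis_repr_apply, KaehlerDifferential.mvPolynomialBasis_apply,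
      frame, Basis.mk_apply, mul_smul, cst_smul_frameVec hr ι dl hL]
  rw [e, Basis.repr_sum_self]

/-- The Euler multiplier. -/
def theta (R : Type u) [CommRing R] (r : ℕ) (ν : Fin n) : MvPolynomial (Fin n) R :=
  if (ν : ℕ) < r then 1 else X ν

/-- The derivative of the multiplier. -/
def chi (R : Type u) [CommRing R] (r : ℕ) (ν : Fin n) : MvPolynomial (Fin n) R :=
  if (ν : ℕ) < r then 0 else 1

theorem delta_theta (ν : Fin n) :
    ι.compDer (KaehlerDifferential.D R (MvPolynomial (Fin n) R)) (theta R r ν) = chi R r ν • frame hr ι dl hL ν := by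
  unfold theta chi
  rw [frame, Basis.mk_apply]
  split_ifs with h
  · rw [Derivation.map_one_eq_zero, zero_smul]
  · rw [one_smul, frameVec, dif_neg h]
    rfl

variable {d : ∀ q : ℕ, ↥(⋀[MvPolynomial (Fin n) R]^q L) →ₗ[R] ↥(⋀[MvPolynomial (Fin n) R]^(q + 1) L)}

theorem isFrameRule (hlog : LogDiff.IsLogRule (KaehlerDifferential.D R (MvPolynomial (Fin n) R)) ι dl d) :
    IsFrameRule (frame hr ι dl hL) (ι.compDer (KaehlerDifferential.D R (MvPolynomial (Fin n) R))) d := by
  intro q f v
  rw [W, hlog q f, wedgeCons_ιMulti]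
  · rfl
  · intro j
    rw [frame, Basis.mk_apply, frameVec]
    split_ifs with h
    · exact Or.inr ⟨_, rfl⟩
    · exact Or.inl ⟨_, rfl⟩

section Projection

/-- The weight of a monomial frame form at `ν`. -/
def wt (r : ℕ) {a : ℕ} (k : Fin n →₀ ℕ) (v : Fin a → Fin n) (ν : Fin n) : ℕ :=
  k ν + if ν ∈ Set.range v ∧ ¬ (ν : ℕ) < r then 1 else 0

/-- The Lie derivative at `ν`. -/
def lieAt (hL : LogDiff.IsLog (KaehlerDifferential.D R (MvPolynomial (Fin n) R)) (fun i : Fin r => (X (Fin.castLE hr i) : (MvPolynomial (Fin n) R))) ι dl)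
    (d : ∀ q : ℕ, ↥(⋀[MvPolynomial (Fin n) R]^q L) →ₗ[R] ↥(⋀[MvPolynomial (Fin n) R]^(q + 1) L))
    (ν : Fin n) (a : ℕ) : Module.End R ↥(⋀[(MvPolynomial (Fin n) R)]^a L) :=
  lie d (theta R r ν • (frame hr ι dl hL).coord ν) a

theorem lieAt_monomial (hlog : LogDiff.IsLogRule (KaehlerDifferential.D R (MvPolynomial (Fin n) R)) ι dl d) (ν : Fin n) {a : ℕ}
    (k : Fin n →₀ ℕ) (c : R) (v : Fin a → Fin n) :
    lieAt hr ι dl hL d ν a (monomial k c • W (frame hr ι dl hL) v) =
      (wt r k v ν : R) • (monomial k c • W (frame hr ι dl hL) v) := by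
  classical
  rw [lieAt, lie_smul_W (frame hr ι dl hL) (isFrameRule hr ι dl hlog) ν _ _ (delta_theta hr ι dl ν), repr_delta,
    ← smul_assoc]
  congr 1
  have h1 : theta R r ν * (pderiv ν (monomial k c) * cst R r ν) = (k ν : R) • monomial k c := by
    rw [← X_mul_pderiv_monomial']
    unfold theta cst
    split_ifs <;> ring
  rw [h1, wt, Nat.cast_add, add_smul]
  congr 1
  unfold chi
  by_cases hv : ν ∈ Set.range v <;> by_cases hν : (ν : ℕ) < r <;> simp [hv, hν]

/-- The projector to weight zero at `ν`. -/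
def proj (p : ℕ) (hL : LogDiff.IsLog (KaehlerDifferential.D R (MvPolynomial (Fin n) R)) (fun i : Fin r => (X (Fin.castLE hr i) : (MvPolynomial (Fin n) R))) ι dl)
    (d : ∀ q : ℕ, ↥(⋀[MvPolynomial (Fin n) R]^q L) →ₗ[R] ↥(⋀[MvPolynomial (Fin n) R]^(q + 1) L))
    (ν : Fin n) (a : ℕ) (x : ↥(⋀[(MvPolynomial (Fin n) R)]^a L)) : ↥(⋀[(MvPolynomial (Fin n) R)]^a L) :=
  x - (lieAt hr ι dl hL d ν a ^ (p - 1)) x

/-- The composite of the projectors along a list. -/
def projs (p : ℕ) (hL : LogDiff.IsLog (KaehlerDifferential.D R (MvPolynomial (Fin n) R)) (fun i : Fin r => (X (Fin.castLE hr i) : (MvPolynomial (Fin n) R))) ι dl)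
    (d : ∀ q : ℕ, ↥(⋀[MvPolynomial (Fin n) R]^q L) →ₗ[R] ↥(⋀[MvPolynomial (Fin n) R]^(q + 1) L))
    (l : List (Fin n)) (a : ℕ) (x : ↥(⋀[(MvPolynomial (Fin n) R)]^a L)) : ↥(⋀[(MvPolynomial (Fin n) R)]^a L) :=
  l.foldr (fun ν => proj hr ι dl p hL d ν a) x

theorem projs_add (l : List (Fin n)) (a : ℕ) (x y : ↥(⋀[(MvPolynomial (Fin n) R)]^a L)) :
    projs hr ι dl p hL d l a (x + y) = projs hr ι dl p hL d l a x + projs hr ι dl p hL d l a y := by
  induction l with
  | nil => rfl
  | cons ν l ih =>
    simp only [projs, List.foldr_cons] at ih ⊢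
    rw [ih]
    simp only [proj, map_add]
    abel

theorem projs_zero (l : List (Fin n)) (a : ℕ) : projs hr ι dl p hL d l a 0 = 0 := by
  induction l with
  | nil => rfl
  | cons ν l ih =>
    simp only [projs, List.foldr_cons] at ih ⊢
    rw [ih, proj, map_zero, sub_zero]

theorem projs_sum (l : List (Fin n)) (a : ℕ) {κ : Type*} (s : Finset κ) (f : κ → ↥(⋀[(MvPolynomial (Fin n) R)]^a L)) :
    projs hr ι dl p hL d l a (∑ i ∈ s, f i) = ∑ i ∈ s, projs hr ι dl p hL d l a (f i) :=
  map_sum ({ toFun := projs hr ι dl p hL d l a, map_zero' := projs_zero hr ι dl l a,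
             map_add' := projs_add hr ι dl l a } : ↥(⋀[(MvPolynomial (Fin n) R)]^a L) →+ ↥(⋀[(MvPolynomial (Fin n) R)]^a L)) f s

theorem d_proj (hd : DeRham.IsDiff (ι.compDer (KaehlerDifferential.D R (MvPolynomial (Fin n) R))) d) (ν : Fin n) (a : ℕ)
    (x : ↥(⋀[(MvPolynomial (Fin n) R)]^a L)) : d a (proj hr ι dl p hL d ν a x) = proj hr ι dl p hL d ν (a + 1) (d a x) := by
  rw [proj, proj, map_sub]
  congr 1
  generalize p - 1 = e
  induction e generalizing x with
  | zero => rfl
  | succ e ih => rw [pow_succ, pow_succ, Module.End.mul_apply, Module.End.mul_apply, ih, lieAt, lieAt, d_lie hd]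

theorem d_projs (hd : DeRham.IsDiff (ι.compDer (KaehlerDifferential.D R (MvPolynomial (Fin n) R))) d) (l : List (Fin n)) (a : ℕ)
    (x : ↥(⋀[(MvPolynomial (Fin n) R)]^a L)) : d a (projs hr ι dl p hL d l a x) = projs hr ι dl p hL d l (a + 1) (d a x) := by
  induction l with
  | nil => rfl
  | cons ν l ih =>
    simp only [projs, List.foldr_cons] at ih ⊢
    rw [d_proj hr ι dl hd, ih]

theorem sub_projs_mem (hd : DeRham.IsDiff (ι.compDer (KaehlerDifferential.D R (MvPolynomial (Fin n) R))) d) (l : List (Fin n)) (a : ℕ)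
    (x : ↥(⋀[(MvPolynomial (Fin n) R)]^a L)) (hx : d a x = 0) : x - projs hr ι dl p hL d l a x ∈ DeRham.coboundaries d a := by
  induction l with
  | nil => simp [projs]
  | cons ν l ih =>
    simp only [projs, List.foldr_cons] at ih ⊢
    set y := List.foldr (fun ν => proj hr ι dl p hL d ν a) x l
    have hy : d a y = 0 := by
      have h := d_projs (p := p) hr ι dl hd l a x (hL := hL)
      rw [hx, projs_zero] at h
      exact h
    rw [proj, ← sub_add]
    refine add_mem ih ?_
    have hp : 2 ≤ p := (Fact.out : p.Prime).two_le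
    rw [show p - 1 = (p - 2) + 1 by omega, pow_succ', Module.End.mul_apply]
    set z := (lieAt hr ι dl hL d ν a ^ (p - 2)) y
    have hz : d a z = 0 := by
      simp only [z]
      generalize p - 2 = e
      clear_value y
      clear ih hp
      induction e generalizing y with
      | zero => exact hy
      | succ e ih' =>
        rw [pow_succ, Module.End.mul_apply]
        refine ih' _ ?_
        rw [lieAt, d_lie hd, hy, map_zero]
    cases a with
    | zero => rw [lieAt, lie_zero_apply, hz, map_zero]; exact zero_mem _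
    | succ q => rw [lieAt, lie_succ_apply, hz, map_zero, add_zero]; exact ⟨_, rfl⟩

theorem lieAt_pow_monomial (hlog : LogDiff.IsLogRule (KaehlerDifferential.D R (MvPolynomial (Fin n) R)) ι dl d) (ν : Fin n) {a : ℕ}
    (k : Fin n →₀ ℕ) (c : R) (v : Fin a → Fin n) (e : ℕ) :
    (lieAt hr ι dl hL d ν a ^ e) (monomial k c • W (frame hr ι dl hL) v) =
      (wt r k v ν : R) ^ e • (monomial k c • W (frame hr ι dl hL) v) := by
  induction e with
  | zero => rw [pow_zero, pow_zero, one_smul]; rfl
  | succ e ih => rw [pow_succ', Module.End.mul_apply, ih, map_smul, lieAt_monomial hr ι dl hlog, smul_smul, pow_succ]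

theorem projs_monomial [CharP R p] (hlog : LogDiff.IsLogRule (KaehlerDifferential.D R (MvPolynomial (Fin n) R)) ι dl d)
    (l : List (Fin n)) {a : ℕ} (k : Fin n →₀ ℕ) (c : R) (v : Fin a → Fin n) :
    projs hr ι dl p hL d l a (monomial k c • W (frame hr ι dl hL) v) =
      if ∀ ν ∈ l, p ∣ wt r k v ν then monomial k c • W (frame hr ι dl hL) v else 0 := by
  classical
  induction l with
  | nil => rw [if_pos (by simp)]; rfl
  | cons ν l ih =>
    simp only [projs, List.foldr_cons] at ih ⊢
    rw [ih]
    by_cases hl : ∀ ν ∈ l, p ∣ wt r k v ν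
    · rw [if_pos hl, proj, lieAt_pow_monomial hr ι dl hlog, pow_sub_one_cast p]
      by_cases hν : p ∣ wt r k v ν
      · rw [if_pos hν, if_pos ((List.forall_mem_cons (p := fun ν => p ∣ wt r k v ν)).2 ⟨hν, hl⟩), zero_smul, sub_zero]
      · rw [if_neg hν, if_neg (fun h => hν ((List.forall_mem_cons (p := fun ν => p ∣ wt r k v ν)).1 h).1), one_smul, sub_self]
    · rw [if_neg hl, if_neg (fun h => hl ((List.forall_mem_cons (p := fun ν => p ∣ wt r k v ν)).1 h).2), proj, map_zero, sub_zero]

/-- The exponent of the closed frame form attached to a tuple. -/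
def shift (p r : ℕ) {a : ℕ} (v : Fin a → Fin n) : Fin n →₀ ℕ :=
  ∑ j, Finsupp.single (v j) (if (v j : ℕ) < r then 0 else p - 1)

theorem shift_apply {a : ℕ} {v : Fin a → Fin n} (hv : Function.Injective v) (ν : Fin n) :
    shift p r v ν = if ν ∈ Set.range v ∧ ¬ (ν : ℕ) < r then p - 1 else 0 := by
  classical
  rw [shift, Finsupp.finset_sum_apply]
  by_cases h : ν ∈ Set.range v
  · obtain ⟨j, rfl⟩ := h
    rw [Finset.sum_eq_single j (fun i _ hij => Finsupp.single_eq_of_ne' (fun e => hij (hv e)))
      (fun hj => absurd (Finset.mem_univ j) hj), Finsupp.single_eq_same]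
    by_cases hr' : (v j : ℕ) < r <;> simp [hr']
  · rw [if_neg fun e => h e.1]
    exact Finset.sum_eq_zero fun i _ => Finsupp.single_eq_of_ne' fun e => h ⟨i, e⟩

theorem dvd_wt_iff {a : ℕ} {v : Fin a → Fin n} (hv : Function.Injective v) (k : Fin n →₀ ℕ) :
    (∀ ν, p ∣ wt r k v ν) ↔ ∃ q : Fin n →₀ ℕ, k = p • q + shift p r v := by
  classical
  have hp : 2 ≤ p := (Fact.out : p.Prime).two_le
  refine ⟨fun h => ⟨Finsupp.equivFunOnFinite.symm fun ν => (k ν - shift p r v ν) / p, ?_⟩, ?_⟩
  · ext ν
    rw [Finsupp.add_apply, Finsupp.smul_apply, Finsupp.equivFunOnFinite_symm_apply_apply, smul_eq_mul,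
      shift_apply hv]
    obtain ⟨m, hm⟩ := h ν
    rw [wt] at hm
    split_ifs at hm ⊢ with hc
    · rcases m with _ | m
      · omega
      rw [Nat.mul_succ] at hm
      rw [show k ν - (p - 1) = p * m by omega, Nat.mul_div_cancel_left _ (by omega)]
      omega
    · rw [Nat.sub_zero, show k ν = p * m by omega, Nat.mul_div_cancel_left _ (by omega)]
      omega
  · rintro ⟨q, rfl⟩ ν
    rw [wt, Finsupp.add_apply, Finsupp.smul_apply, smul_eq_mul, shift_apply hv]
    split_ifs
    · exact ⟨q ν + 1, by rw [Nat.mul_succ]; omega⟩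
    · exact ⟨q ν, by omega⟩

theorem d_closed_monomial [CharP R p] (hlog : LogDiff.IsLogRule (KaehlerDifferential.D R (MvPolynomial (Fin n) R)) ι dl d) {a : ℕ}
    (k : Fin n →₀ ℕ) (c : R) (v : Fin a → Fin n) (h : ∀ ν, p ∣ wt r k v ν) :
    d a (monomial k c • W (frame hr ι dl hL) v) = 0 := by
  classical
  rw [isFrameRule hr ι dl hlog,
    ← (frame hr ι dl hL).sum_repr (ι.compDer (KaehlerDifferential.D R (MvPolynomial (Fin n) R)) (monomial k c))]
  have hsum : ∀ (s : Finset (Fin n)) (g : Fin n → L),
      wedgeCons (A := (MvPolynomial (Fin n) R)) a (∑ i ∈ s, g i) (W (frame hr ι dl hL) v) =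
        ∑ i ∈ s, wedgeCons (A := (MvPolynomial (Fin n) R)) a (g i) (W (frame hr ι dl hL) v) := fun s g =>
    map_sum ({ toFun := fun m => wedgeCons (A := (MvPolynomial (Fin n) R)) a m (W (frame hr ι dl hL) v),
               map_zero' := Subtype.ext (by rw [coe_wedgeCons, map_zero, zero_mul]; rfl),
               map_add' := fun x y => wedgeCons_add a x y _ } : L →+ ↥(⋀[(MvPolynomial (Fin n) R)]^(a + 1) L)) g s
  rw [hsum]
  refine Finset.sum_eq_zero fun ν _ => ?_
  rw [wedgeCons_smul]
  by_cases hv : ν ∈ Set.range v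
  · rw [wedgeCons_W_eq_zero _ hv, smul_zero]
  · have hk : (k ν : R) = 0 := by
      refine (CharP.cast_eq_zero_iff R p _).2 ?_
      have := h ν
      rwa [wt, if_neg fun e => hv e.1, add_zero] at this
    rw [repr_delta, pderiv_monomial, hk, mul_zero, monomial_zero, zero_mul, zero_smul]

theorem smul_monomial_shift {a : ℕ} (w : Fin n → L) (hw : ∀ i : Fin r, w (Fin.castLE hr i) = dl i)
    (hw' : ∀ ν : Fin n, r ≤ (ν : ℕ) → w ν = ι (((X ν : (MvPolynomial (Fin n) R)) ^ (p - 1)) • KaehlerDifferential.D R (MvPolynomial (Fin n) R) (X ν)))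
    (v : Fin a → Fin n) :
    ιMulti (MvPolynomial (Fin n) R) a (fun j => w (v j)) = monomial (shift p r v) (1 : R) • W (frame hr ι dl hL) v := by
  classical
  have h1 : ∀ ν, w ν = (monomial (Finsupp.single ν (if (ν : ℕ) < r then 0 else p - 1)) (1 : R)) •
      frame hr ι dl hL ν := by
    intro ν
    rw [frame, Basis.mk_apply, frameVec]
    by_cases h : (ν : ℕ) < r
    · rw [dif_pos h, if_pos h, Finsupp.single_zero, monomial_zero', C_1, one_smul]
      exact hw ⟨ν, h⟩
    · rw [dif_neg h, if_neg h, ← X_pow_eq_monomial, ← map_smul]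
      exact hw' ν (not_lt.1 h)
  simp only [h1]
  rw [(ιMulti (MvPolynomial (Fin n) R) a).map_smul_univ, shift, monomial_sum_one]
  rfl

end Projection

/-- The Cartier isomorphism. -/
theorem cocycles_iff_and_independent [CharP R p] (a : ℕ)
    (hL : LogDiff.IsLog (KaehlerDifferential.D R (MvPolynomial (Fin n) R)) (fun i : Fin r => (X (Fin.castLE hr i) : (MvPolynomial (Fin n) R))) ι dl)
    (hd : DeRham.IsDiff (ι.compDer (KaehlerDifferential.D R (MvPolynomial (Fin n) R))) d)
    (hlog : LogDiff.IsLogRule (KaehlerDifferential.D R (MvPolynomial (Fin n) R)) ι dl d)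
    (w : Fin n → L) (hw : ∀ i : Fin r, w (Fin.castLE hr i) = dl i)
    (hw' : ∀ ν : Fin n, r ≤ (ν : ℕ) → w ν = ι (((X ν : (MvPolynomial (Fin n) R)) ^ (p - 1)) • KaehlerDifferential.D R (MvPolynomial (Fin n) R) (X ν)))
    (e : Finset (Fin n) → ↥(⋀[(MvPolynomial (Fin n) R)]^a L))
    (he : ∀ (s : Finset (Fin n)) (hs : s.card = a), e s = ιMulti (MvPolynomial (Fin n) R) a (fun j => w (s.orderEmbOfFin hs j))) :
    (∀ ω, ω ∈ DeRham.cocycles d a ↔
      ∃ (g : Finset (Fin n) → (MvPolynomial (Fin n) R)) (η : ↥(⋀[(MvPolynomial (Fin n) R)]^a L)), η ∈ DeRham.coboundaries d a ∧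
        ω = η + ∑ s ∈ Finset.powersetCard a Finset.univ, expand p (g s) • e s) ∧
    (∀ g : Finset (Fin n) → (MvPolynomial (Fin n) R),
      (∑ s ∈ Finset.powersetCard a Finset.univ, expand p (g s) • e s) ∈ DeRham.coboundaries d a →
        ∀ s ∈ Finset.powersetCard a (Finset.univ : Finset (Fin n)), g s = 0) := by
  classical
  let bL := frame hr ι dl hL
  let bA := bL.exteriorPower a
  let T := Set.powersetCard (Fin n) a
  let vs : T → Fin a → Fin n := fun t => Finset.orderEmbOfFin t.val t.prop
  have hvs : ∀ t, Function.Injective (vs t) := fun t => (Finset.orderEmbOfFin t.val t.prop).injective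
  have hbA : ∀ t : T, bA t = W bL (vs t) := fun t => by
    simp only [bA, exteriorPower.basis_apply]
    rfl
  have hsum : ∀ F : Finset (Fin n) → ↥(⋀[(MvPolynomial (Fin n) R)]^a L),
      ∑ s ∈ Finset.powersetCard a Finset.univ, F s = ∑ t : T, F t.val := fun F =>
    Finset.sum_subtype _ (fun s => by simp [T, Set.powersetCard]) F
  have he' : ∀ t : T, e t.val = monomial (shift p r (vs t)) (1 : R) • bA t := fun t => by
    rw [he t.val t.prop, hbA]
    exact smul_monomial_shift hr ι dl w hw hw' (vs t)
  let Φ := projs hr ι dl p hL d (Finset.univ : Finset (Fin n)).toList a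
  have hΦm : ∀ (k : Fin n →₀ ℕ) (c : R) (t : T), Φ (monomial k c • bA t) =
      if ∀ ν, p ∣ wt r k (vs t) ν then monomial k c • bA t else 0 := fun k c t => by
    rw [hbA]
    simp only [Φ, bL]
    rw [projs_monomial hr ι dl hlog]
    simp only [Finset.mem_toList, Finset.mem_univ, true_implies]
  have hΦ : ∀ (f : (MvPolynomial (Fin n) R)) (t : T), ∃ g : (MvPolynomial (Fin n) R), Φ (f • bA t) = expand p g • e t.val := by
    intro f t
    induction f using MvPolynomial.induction_on' with
    | monomial k c =>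
      rw [hΦm]
      split_ifs with h
      · obtain ⟨q, rfl⟩ := (dvd_wt_iff (hvs t) k).1 h
        exact ⟨monomial q c, by rw [he', smul_smul, expand_monomial, monomial_mul, mul_one]⟩
      · exact ⟨0, by rw [map_zero, zero_smul]⟩
    | add f f' hf hf' =>
      obtain ⟨g, hg⟩ := hf
      obtain ⟨g', hg'⟩ := hf'
      exact ⟨g + g', by rw [add_smul, map_add, add_smul, ← hg, ← hg']; exact projs_add hr ι dl _ a _ _⟩
  have hfix : ∀ (g : (MvPolynomial (Fin n) R)) (t : T),
      Φ (expand p g • e t.val) = expand p g • e t.val ∧ d a (expand p g • e t.val) = 0 := by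
    intro g t
    induction g using MvPolynomial.induction_on' with
    | monomial q c =>
      rw [he', smul_smul, expand_monomial, monomial_mul, mul_one]
      have h := (dvd_wt_iff (r := r) (p := p) (hvs t) (p • q + shift p r (vs t))).2 ⟨q, rfl⟩
      refine ⟨by rw [hΦm, if_pos h], ?_⟩
      rw [hbA]
      exact d_closed_monomial hr ι dl hlog _ c _ h
    | add g g' hg hg' =>
      simp only [map_add, add_smul]
      exact ⟨(projs_add hr ι dl _ a _ _).trans (by rw [← hg.1, ← hg'.1]; simp only [Φ, hg.1, hg'.1]), by rw [hg.2, hg'.2, add_zero]⟩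
  constructor
  · intro ω
    constructor
    · intro hω
      choose g hg using fun t => hΦ (bA.repr ω t) t
      refine ⟨fun s => if h : s.card = a then g ⟨s, h⟩ else 0, ω - Φ ω,
        sub_projs_mem hr ι dl hd _ a ω hω, ?_⟩
      have h2 : Φ ω = ∑ t : T, expand p (g t) • e t.val := by
        conv_lhs => rw [← bA.sum_repr ω]
        exact (projs_sum hr ι dl _ a _ _).trans (Finset.sum_congr rfl fun t _ => hg t)
      rw [hsum]
      refine ((sub_add_cancel ω (Φ ω)).symm.trans ?_)
      rw [h2]
      refine congrArg _ (Finset.sum_congr rfl fun t _ => ?_)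
      dsimp only
      rw [dif_pos (show t.val.card = a from t.prop)]
    · rintro ⟨g, η, hη, rfl⟩
      refine add_mem ?_ ?_
      · cases a with
        | zero => rw [(Submodule.mem_bot R).1 hη]; exact zero_mem _
        | succ q =>
          obtain ⟨z, rfl⟩ := hη
          exact LinearMap.congr_fun (hd.2 q) z
      · rw [hsum]
        exact sum_mem fun t _ => (hfix (g t.val) t).2
  · intro g hg s hs
    have hS : Φ (∑ s ∈ Finset.powersetCard a Finset.univ, expand p (g s) • e s) =
        ∑ s ∈ Finset.powersetCard a Finset.univ, expand p (g s) • e s := by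
      rw [hsum]
      exact (projs_sum hr ι dl _ a _ _).trans (Finset.sum_congr rfl fun t _ => (hfix (g t.val) t).1)
    have hzero : ∑ s ∈ Finset.powersetCard a Finset.univ, expand p (g s) • e s = 0 := by
      rw [← hS]
      generalize ∑ s ∈ Finset.powersetCard a Finset.univ, expand p (g s) • e s = x at hg
      cases a with
      | zero => rw [(Submodule.mem_bot R).1 hg]; exact projs_zero hr ι dl _ _
      | succ q =>
        obtain ⟨z, rfl⟩ := hg
        show projs hr ι dl p hL d _ (q + 1) (d q z) = 0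
        rw [← d_projs hr ι dl hd]
        have hz : ∀ (q : ℕ) (z : ↥(⋀[(MvPolynomial (Fin n) R)]^q L)), d q (projs hr ι dl p hL d (Finset.univ : Finset (Fin n)).toList q z) = 0 := by
          intro q z
          let bq := (frame hr ι dl hL).exteriorPower q
          conv_lhs => rw [← bq.sum_repr z]
          rw [projs_sum, map_sum]
          refine Finset.sum_eq_zero fun t _ => ?_
          induction bq.repr z t using MvPolynomial.induction_on' with
          | monomial k c =>
            rw [show bq t = W (frame hr ι dl hL) (Finset.orderEmbOfFin t.val t.prop) by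
              simp only [bq, exteriorPower.basis_apply]; rfl, projs_monomial hr ι dl hlog]
            split_ifs with h
            · exact d_closed_monomial hr ι dl hlog k c _ fun ν => h ν (by simp)
            · rw [map_zero]
          | add f f' hf hf' => rw [add_smul, projs_add, map_add, hf, hf', add_zero]
        exact hz q z
    rw [hsum] at hzero
    simp only [he', smul_smul] at hzero
    have h := Fintype.linearIndependent_iff.1 bA.linearIndependent _ hzero
      ⟨s, (Finset.mem_powersetCard.1 hs).2⟩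
    rw [mul_comm] at h
    have hp : 0 < p := (Fact.out : p.Prime).pos
    refine (expand_eq_zero hp).1 ?_
    ext k
    have h2 := congrArg (coeff (shift p r (vs ⟨s, (Finset.mem_powersetCard.1 hs).2⟩) + k)) h
    rwa [coeff_monomial_mul, one_mul, coeff_zero] at h2

end Groth.L06.LogCartier
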